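import Cfsg.Agent.Lib.Trivalent.Bound

/-!
Chains in which no element of a window of length `t` is central in the window of length
`t + 2`: the possible lengths, and the action of `x 0 * x t` on the middle window.
-/

set_option autoImplicit false
set_option linter.style.haveILetI false

namespace Cfsg.Agent.Lib.DihedralCore

open Subgroup

open Cfsg.Agent.Lib.Trivalent (Chain win mem_win win_mono win_le win_sup win_zero two_le_dist)

open scoped commutatorElement

variable {G : Type*} [Group G] [Finite G] {t : ℕ}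

theorem commute_of_pow {u v : G} {m n : ℕ} (h1 : Commute (u ^ m) v) (h2 : Commute (u ^ n) v)
    (hc : Nat.Coprime m n) : Commute u v := by
  have e : u = u ^ (((Nat.gcd m n : ℕ) : ℤ)) := by rw [hc.gcd_eq_one, Nat.cast_one, zpow_one]
  rw [e, Nat.gcd_eq_gcd_ab, zpow_add, zpow_mul, zpow_mul, zpow_natCast, zpow_natCast]
  exact (h1.zpow_left _).mul_left (h2.zpow_left _)

/-- The possible lengths. -/
theorem chain_cases (c : Chain G t) (ht : 2 ≤ t)
    (hcen : ∀ y ∈ win c.x 0 t, (∀ i : ℤ, 0 ≤ i → i ≤ t + 1 → Commute (c.x i) y) → y = 1) :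
    ∃ d, c.Dist d ∧
      ((t = 2 ∧ d = 2) ∨ (t = 3 ∧ d = 2) ∨ (t = 4 ∧ d = 3) ∨ (t = 6 ∧ d = 4)) := by
  classical
  obtain ⟨d, hd⟩ : ∃ d, c.Dist d := by
    by_cases he : ∃ k : ℕ, 1 ≤ k ∧ ¬ Commute (c.x 0) (c.x k)
    · obtain ⟨h1, h2⟩ := Nat.find_spec he
      refine ⟨Nat.find he, h1, h2, fun k hk => ?_⟩
      rcases Nat.eq_zero_or_pos k with rfl | hk0
      · exact Commute.refl _
      · by_contra hc
        exact Nat.find_min he hk ⟨hk0, hc⟩
    exfalso
    push Not at he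
    refine c.x_ne_one 0 (hcen _ (mem_win le_rfl (by omega)) fun i h1 h2 => ?_)
    obtain ⟨k, rfl⟩ : ∃ k : ℕ, i = k := ⟨i.toNat, by omega⟩
    rcases Nat.eq_zero_or_pos k with rfl | hk0
    · exact Commute.refl _
    · exact (he k hk0).symm
  refine ⟨d, hd, ?_⟩
  have hd2 := two_le_dist ht hd
  have hdt : d ≤ t := by
    by_contra hh
    refine c.x_ne_one ((t : ℤ) - 1) (hcen _ (mem_win (by omega) (by omega)) fun i h1 h2 => ?_)
    exact hd.commute (by omega) (by omega)
  have h2d : 2 * d ≤ t + 2 := by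
    by_contra hh
    refine c.x_ne_one ((d : ℤ) - 1) (hcen _ (mem_win (by omega) (by omega)) fun i h1 h2 => ?_)
    exact hd.commute (by omega) (by omega)
  by_cases h : d + 1 ≤ t
  · have := c.two_mul_le_three hd h
    omega
  · omega

theorem commute_win {c : Chain G t} {d : ℕ} (hd : c.Dist d) {i : ℤ} {m : ℕ} (hm : m ≤ d) {y z : G}
    (hy : y ∈ win c.x i m) (hz : z ∈ win c.x i m) : Commute y z :=
  Chain.commute_of_mem_win hy fun _ h1 h2 =>
    (Chain.commute_of_mem_win hz fun _ h3 h4 => hd.commute (by omega) (by omega)).symm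

theorem sq_of_mem_win {c : Chain G t} {d : ℕ} (hd : c.Dist d) {i : ℤ} {m : ℕ} (hm : m ≤ d) {y : G}
    (hy : y ∈ win c.x i m) : y * y = 1 := by
  refine closure_induction (p := fun y _ => y * y = 1) (fun y hy => ?_) (one_mul 1)
    (fun a b ha hb iha ihb => ?_) (fun a _ iha => by rw [← mul_inv_rev, iha, inv_one]) hy
  · obtain ⟨j, -, rfl⟩ := hy; exact c.x_mul_self j
  · rw [mul_assoc, ← mul_assoc b a b, (commute_win hd hm hb ha).eq, mul_assoc a b b, ihb, mul_one,
      iha]

theorem win_one {c : Chain G t} {i : ℤ} {y : G} (hy : y ∈ win c.x i 1) : y = 1 ∨ y = c.x i := by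
  have hlez : win c.x i 1 ≤ zpowers (c.x i) := win_le fun j h1 h2 => by
    rw [show j = i by omega]; exact mem_zpowers _
  obtain ⟨k, rfl⟩ := mem_zpowers_iff.mp (hlez hy)
  rcases Int.even_or_odd' k with ⟨m, rfl | rfl⟩
  · left; rw [zpow_mul, zpow_two, c.x_mul_self, one_zpow]
  · right; rw [zpow_add, zpow_mul, zpow_two, c.x_mul_self, one_zpow, one_mul, zpow_one]

/-- The length 6: the middle window is normal in the top window. -/
theorem six_normal {c : Chain G 6} (hd : c.Dist 4) :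
    win c.x 0 7 ≤ normalizer (win c.x 1 4 : Set G) := by
  set E := win c.x 1 4 with hE
  have hz : ⁅c.x 0, c.x 4⁆ = c.x 2 := by
    have hz := c.mem_high hd (by omega)
    have hz' := c.mem_low hd (by omega)
    norm_num at hz hz'
    exact (win_one (c.mem_win_succ (a := 1) (n := 1) (N := 2) (by omega) (by omega) hz hz')).resolve_left
      (c.comm_ne_one hd)
  have hw : ⁅c.x 0, c.x 5⁆ ∈ win c.x 1 3 := by
    have hw4 : ⁅c.x 0, c.x 5⁆ ∈ win c.x 1 4 := by
      simpa using c.comm_mem (i := 0) (m := 5) (by omega) le_rfl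
    set w := ⁅c.x 0, c.x 5⁆ with hwdef
    have hw2 : w * w = 1 := sq_of_mem_win hd le_rfl hw4
    -- `x 0` centralises `w`
    have hw0 : Commute w (c.x 0) := by
      have e : w = c.x 0 * c.x 5 * c.x 0 * c.x 5 := by
        rw [hwdef, commutatorElement_def, c.x_inv, c.x_inv]
      have e2 : c.x 0 * w * c.x 0 = w⁻¹ := by
        rw [e, mul_inv_rev, mul_inv_rev, mul_inv_rev, c.x_inv, c.x_inv]
        simp only [← mul_assoc, c.x_mul_self, one_mul]
      rw [inv_eq_of_mul_eq_one_right hw2] at e2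
      show w * c.x 0 = c.x 0 * w
      conv_lhs => rw [← e2, mul_assoc, c.x_mul_self, mul_one]
    by_contra hh
    have hS : win c.x 1 3 ≤ win c.x 1 4 := win_mono le_rfl (by omega)
    have hidx : ((win c.x 1 3).subgroupOf (win c.x 1 4)).index = 2 := by
      have h := card_mul_index ((win c.x 1 3).subgroupOf (win c.x 1 4))
      rw [Nat.card_congr (subgroupOfEquivOfLe hS).toEquiv, c.card_win _ _ (by omega),
        c.card_win _ _ (by omega)] at h
      omega
    have hx : c.x 4 ∉ win c.x 1 3 := fun hx => by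
      refine hh ((win_le fun j h1 h2 => ?_ : win c.x 1 4 ≤ win c.x 1 3) hw4)
      rcases eq_or_lt_of_le (show j ≤ 4 by omega) with rfl | h'
      · exact hx
      · exact mem_win h1 (by omega)
    have := mul_mem_iff_of_index_two hidx (a := (⟨w, hw4⟩ : win c.x 1 4))
      (b := ⟨c.x 4, mem_win (by omega) (by omega)⟩)
    simp only [mem_subgroupOf, Subgroup.coe_mul] at this
    have hm : w * c.x 4 ∈ win c.x 1 3 := this.mpr ⟨fun e => absurd e hh, fun e => absurd e hx⟩
    have h1 : Commute (w * c.x 4) (c.x 0) := Chain.commute_of_mem_win hm fun j h1 h2 =>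
      hd.commute (by omega) (by omega)
    have h2 := hw0.inv_left.mul_left h1
    rw [inv_mul_cancel_left] at h2
    exact hd.not_comm (by push_cast; exact h2.symm)
  have hz6 : ⁅c.x 2, c.x 6⁆ = c.x 4 := by
    have := congrArg (c.φ.toMonoidHom.comp c.φ.toMonoidHom) hz
    simp only [map_commutatorElement, MonoidHom.comp_apply, MulEquiv.coe_toMonoidHom,
      c.shift] at this
    norm_num at this
    exact this
  have hw6 : ⁅c.x 1, c.x 6⁆ ∈ win c.x 2 3 := by
    have h := mem_map_of_mem c.φ.toMonoidHom hw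
    rw [c.map_shift, map_commutatorElement, MulEquiv.coe_toMonoidHom, c.shift, c.shift] at h
    norm_num at h
    exact h
  have h6 : c.x 6 ∈ normalizer (E : Set G) := by
    have key : E.map (MulAut.conj (c.x 6)).toMonoidHom ≤ E := by
      rw [map_le_iff_le_comap]
      refine win_le fun j h1 h2 => ?_
      rw [mem_comap, MulEquiv.coe_toMonoidHom, MulAut.conj_apply]
      have hjE : c.x j ∈ E := mem_win h1 h2
      have e : c.x 6 * c.x j * (c.x 6)⁻¹ = ⁅c.x j, c.x 6⁆⁻¹ * c.x j := by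
        rw [commutatorElement_def]; group
      rw [e]
      refine mul_mem (inv_mem ?_) hjE
      rcases (show j = 1 ∨ j = 2 ∨ j = 3 ∨ j = 4 by omega) with rfl | rfl | rfl | rfl
      · exact win_mono (by omega) (by omega) hw6
      · rw [hz6]; exact mem_win (by omega) (by omega)
      all_goals
        rw [commutatorElement_eq_one_iff_commute.mpr
          (hd.commute (by omega) (by omega))]
        exact one_mem _
    have e := eq_of_le_of_card_ge key (card_map_of_injective (MulAut.conj (c.x 6)).injective).ge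
    rw [mem_normalizer_iff]
    intro y
    refine ⟨fun hy => key (mem_map_of_mem _ hy), fun hy => ?_⟩
    rw [← e] at hy
    obtain ⟨z, hz', e'⟩ := hy
    rwa [(MulAut.conj (c.x 6)).injective e'] at hz'
  refine win_le fun j h1 h2 => ?_
  rcases (show j = 0 ∨ (1 ≤ j ∧ j ≤ 4) ∨ j = 5 ∨ j = 6 by omega) with rfl | h | rfl | rfl
  · exact (c.normalizes_left (i := 0) (n := 4) (by omega)).2 (mem_win le_rfl (by omega))
  · exact Subgroup.le_normalizer (mem_win h.1 (by omega))
  · exact (c.normalizes_left (i := 1) (n := 4) (by omega)).1 (mem_win (by omega) (by omega))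
  · exact h6

/-- The length 2: everything centralises the middle window. -/
theorem two_action {c : Chain G 2} (hd : c.Dist 2) :
    c.x 0 * c.x 2 ∈ centralizer (win c.x 1 1 : Set G) := by
  refine mem_centralizer_iff.2 fun y hy => ?_
  exact (Chain.commute_of_mem_win hy fun j h1 h2 =>
    (hd.commute (by push_cast; omega) (by push_cast; omega)).mul_right
      (hd.commute (by push_cast; omega) (by push_cast; omega))).eq

theorem cube_fix {u a b e : G} (h1 : u * a * u⁻¹ = b) (h2 : u * b * u⁻¹ = e)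
    (h3 : u * e * u⁻¹ = a) : Commute (u ^ 3) a := by
  have h : u ^ 3 * a * (u ^ 3)⁻¹ = a := by
    calc u ^ 3 * a * (u ^ 3)⁻¹ = u * (u * (u * a * u⁻¹) * u⁻¹) * u⁻¹ := by
          rw [pow_succ, pow_succ, pow_one]; group
      _ = a := by rw [h1, h2, h3]
  exact mul_inv_eq_iff_eq_mul.1 h

/-- The length 3: `x 0 * x 3` acts on the middle window as an element of order 3. -/
theorem three_action {c : Chain G 3} (hd : c.Dist 2) :
    ¬ Commute (c.x 0 * c.x 3) (c.x 1) ∧
      (c.x 0 * c.x 3) ^ 3 ∈ centralizer (win c.x 1 2 : Set G) := by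
  have hz : ⁅c.x 0, c.x 2⁆ = c.x 1 := (win_one (c := c) (by
    simpa using c.comm_mem (i := 0) (m := 2) (by omega) le_rfl)).resolve_left (c.comm_ne_one hd)
  have hz' : ⁅c.x 1, c.x 3⁆ = c.x 2 := by
    have := congrArg c.φ.toMonoidHom hz
    simp only [map_commutatorElement, MulEquiv.coe_toMonoidHom, c.shift] at this
    norm_num at this
    exact this
  rw [commutatorElement_def, c.x_inv, c.x_inv] at hz hz'
  have hc : ∀ i j : ℤ, i - j < 2 → j - i < 2 → c.x i * c.x j = c.x j * c.x i := fun i j h1 h2 =>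
    (hd.commute (by push_cast; omega) (by push_cast; omega)).eq
  have h02 : c.x 0 * c.x 2 * c.x 0 = c.x 1 * c.x 2 := by
    rw [← hz, mul_assoc _ (c.x 2) (c.x 2), c.x_mul_self, mul_one]
  have h31 : c.x 3 * c.x 1 * c.x 3 = c.x 1 * c.x 2 := by
    rw [← hz']
    simp only [← mul_assoc, c.x_mul_self, one_mul]
  set u := c.x 0 * c.x 3 with hu
  have hui : u⁻¹ = c.x 3 * c.x 0 := by rw [hu, mul_inv_rev, c.x_inv, c.x_inv]
  have h1 : u * c.x 1 * u⁻¹ = c.x 2 := by
    rw [hui, hu]
    calc c.x 0 * c.x 3 * c.x 1 * (c.x 3 * c.x 0)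
        = c.x 0 * (c.x 3 * c.x 1 * c.x 3) * c.x 0 := by group
      _ = (c.x 0 * c.x 1) * (c.x 2 * c.x 0) := by rw [h31]; group
      _ = c.x 1 * (c.x 0 * c.x 2 * c.x 0) := by rw [hc 0 1 (by omega) (by omega)]; group
      _ = c.x 2 := by rw [h02, ← mul_assoc, c.x_mul_self, one_mul]
  have h2 : u * c.x 2 * u⁻¹ = c.x 1 * c.x 2 := by
    rw [hui, hu]
    calc c.x 0 * c.x 3 * c.x 2 * (c.x 3 * c.x 0)
        = c.x 0 * (c.x 3 * c.x 2 * c.x 3) * c.x 0 := by group
      _ = c.x 0 * c.x 2 * c.x 0 := by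
          rw [hc 3 2 (by omega) (by omega), mul_assoc (c.x 2), c.x_mul_self, mul_one]
      _ = _ := h02
  have h3 : u * (c.x 1 * c.x 2) * u⁻¹ = c.x 1 := by
    calc u * (c.x 1 * c.x 2) * u⁻¹ = (u * c.x 1 * u⁻¹) * (u * c.x 2 * u⁻¹) := by group
      _ = c.x 1 := by
          rw [h1, h2, hc 1 2 (by omega) (by omega), ← mul_assoc, c.x_mul_self, one_mul]
  refine ⟨fun e => ?_, mem_centralizer_iff.2 fun y hy => ?_⟩
  · rw [e.eq, mul_inv_cancel_right] at h1
    exact c.x_ne_one 1 (c.eq_one_of_mem_win (n := 1) (a := 1) (m := 1) (by omega)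
      (mem_win le_rfl (by omega)) (h1 ▸ mem_win (by omega) (by omega)))
  · refine (Chain.commute_of_mem_win hy fun j hj1 hj2 => ?_).eq
    rcases (show j = 1 ∨ j = 2 by omega) with rfl | rfl
    · exact (cube_fix h1 h2 h3).symm
    · exact (cube_fix h2 h3 h1).symm

/-- The length 4: `x 0 * x 4` acts on the middle window with fixed points `⟨x 2⟩`. -/
theorem four_action {c : Chain G 4} (hd : c.Dist 3) {n : ℕ} (hn : Odd n)
    (hun : (c.x 0 * c.x 4) ^ n ∈ win c.x 1 3) :
    Commute (c.x 0 * c.x 4) (c.x 2) ∧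
      (c.x 0 * c.x 4) ^ 3 ∈ centralizer (win c.x 1 3 : Set G) ∧
      ∀ q ∈ win c.x 1 3, Commute (c.x 0 * c.x 4) q → q = 1 ∨ q = c.x 2 := by
  have hc : ∀ i j : ℤ, i - j < 3 → j - i < 3 → c.x i * c.x j = c.x j * c.x i := fun i j h1 h2 =>
    (hd.commute (by push_cast; omega) (by push_cast; omega)).eq
  have hz : ⁅c.x 0, c.x 3⁆ ∈ win c.x 1 2 := by
    simpa using c.comm_mem (i := 0) (m := 3) (by omega) le_rfl
  have hcases : ⁅c.x 0, c.x 3⁆ = c.x 1 ∨ ⁅c.x 0, c.x 3⁆ = c.x 2 ∨
      ⁅c.x 0, c.x 3⁆ = c.x 1 * c.x 2 := by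
    rcases Chain.mem_win_or (i := 1) (n := 1) (by omega) hz with h' | h'
    · exact Or.inr (Or.inl ((win_one (c := c) (i := 1 + 1) h').resolve_left (c.comm_ne_one hd)))
    · rcases win_one (c := c) (i := 1 + 1) h' with e | e
      · left
        calc ⁅c.x 0, c.x 3⁆ = c.x 1 * (c.x 1 * ⁅c.x 0, c.x 3⁆) := by
              rw [← mul_assoc, c.x_mul_self, one_mul]
          _ = c.x 1 := by rw [e, mul_one]
      · right; right
        calc ⁅c.x 0, c.x 3⁆ = c.x 1 * (c.x 1 * ⁅c.x 0, c.x 3⁆) := by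
              rw [← mul_assoc, c.x_mul_self, one_mul]
          _ = c.x 1 * c.x 2 := by rw [e]; norm_num
  set u := c.x 0 * c.x 4 with hu
  have hui : u⁻¹ = c.x 4 * c.x 0 := by rw [hu, mul_inv_rev, c.x_inv, c.x_inv]
  have hu2 : Commute u (c.x 2) :=
    Commute.mul_left (hd.commute (by omega) (by omega))
      (hd.commute (by omega) (by omega))
  have huQ : ∀ q ∈ win c.x 1 3, Commute (u ^ n) q := fun q hq => commute_win hd le_rfl hun hq
  have hx13 : ∀ j : ℤ, 1 ≤ j → j < 4 → c.x j ∈ win c.x 1 3 := fun j h1 h2 =>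
    mem_win h1 (by omega)
  have hu3 : u * c.x 3 * u⁻¹ = ⁅c.x 0, c.x 3⁆ * c.x 3 := by
    rw [hui, hu, commutatorElement_def, c.x_inv, c.x_inv, mul_assoc _ (c.x 3) (c.x 3),
      c.x_mul_self, mul_one]
    calc c.x 0 * c.x 4 * c.x 3 * (c.x 4 * c.x 0)
        = c.x 0 * (c.x 4 * c.x 3 * c.x 4) * c.x 0 := by group
      _ = _ := by rw [hc 4 3 (by omega) (by omega), mul_assoc (c.x 3), c.x_mul_self, mul_one]
  rcases hcases with e | e | e
  · -- `w = x 1`: `u` would have order 4 on the window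
    exfalso
    have e' : ⁅c.x 1, c.x 4⁆ = c.x 2 := by
      have := congrArg c.φ.toMonoidHom e
      simp only [map_commutatorElement, MulEquiv.coe_toMonoidHom, c.shift] at this
      norm_num at this
      exact this
    rw [commutatorElement_def, c.x_inv, c.x_inv] at e'
    have h41 : c.x 4 * c.x 1 * c.x 4 = c.x 1 * c.x 2 := by
      rw [← e']; simp only [← mul_assoc, c.x_mul_self, one_mul]
    have h1 : u * c.x 1 * u⁻¹ = c.x 1 * c.x 2 := by
      rw [hui, hu]
      calc c.x 0 * c.x 4 * c.x 1 * (c.x 4 * c.x 0)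
          = c.x 0 * (c.x 4 * c.x 1 * c.x 4) * c.x 0 := by group
        _ = (c.x 0 * c.x 1) * (c.x 2 * c.x 0) := by rw [h41]; group
        _ = (c.x 1 * c.x 0) * (c.x 0 * c.x 2) := by
            rw [hc 0 1 (by omega) (by omega), hc 2 0 (by omega) (by omega)]
        _ = c.x 1 * c.x 2 := by
            rw [mul_assoc, ← mul_assoc (c.x 0) (c.x 0), c.x_mul_self, one_mul]
    rw [e] at hu3
    have hsq : u ^ 2 * c.x 3 * (u ^ 2)⁻¹ = c.x 2 * c.x 3 := by
      calc u ^ 2 * c.x 3 * (u ^ 2)⁻¹ = u * (u * c.x 3 * u⁻¹) * u⁻¹ := by rw [pow_two]; group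
        _ = u * (c.x 1 * c.x 3) * u⁻¹ := by rw [hu3]
        _ = (u * c.x 1 * u⁻¹) * (u * c.x 3 * u⁻¹) := by group
        _ = c.x 2 * c.x 3 := by
            rw [h1, hu3, hc 1 2 (by omega) (by omega), mul_assoc, ← mul_assoc (c.x 1) (c.x 1),
              c.x_mul_self, one_mul]
    have h4 : Commute (u ^ 4) (c.x 3) := by
      refine mul_inv_eq_iff_eq_mul.1 ?_
      calc u ^ 4 * c.x 3 * (u ^ 4)⁻¹ = u ^ 2 * (u ^ 2 * c.x 3 * (u ^ 2)⁻¹) * (u ^ 2)⁻¹ := by
            rw [pow_add u 2 2]; group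
        _ = u ^ 2 * (c.x 2 * c.x 3) * (u ^ 2)⁻¹ := by rw [hsq]
        _ = (u ^ 2 * c.x 2 * (u ^ 2)⁻¹) * (u ^ 2 * c.x 3 * (u ^ 2)⁻¹) := by group
        _ = c.x 3 := by
            rw [hsq, (hu2.pow_left 2).eq, mul_inv_cancel_right, ← mul_assoc, c.x_mul_self, one_mul]
    have h := commute_of_pow h4 (huQ _ (hx13 3 (by omega) (by omega)))
      (Nat.Coprime.pow_left 2 (Nat.coprime_two_left.2 hn))
    rw [h.eq, mul_inv_cancel_right] at hu3
    exact c.x_ne_one 1 (right_eq_mul.1 hu3)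
  · -- `w = x 2`: `u ^ 2` would fix `x 3`
    exfalso
    rw [e] at hu3
    have h2 : Commute (u ^ 2) (c.x 3) := by
      refine mul_inv_eq_iff_eq_mul.1 ?_
      calc u ^ 2 * c.x 3 * (u ^ 2)⁻¹ = u * (u * c.x 3 * u⁻¹) * u⁻¹ := by rw [pow_two]; group
        _ = u * (c.x 2 * c.x 3) * u⁻¹ := by rw [hu3]
        _ = (u * c.x 2 * u⁻¹) * (u * c.x 3 * u⁻¹) := by group
        _ = c.x 3 := by
            rw [hu3, hu2.eq, mul_inv_cancel_right, ← mul_assoc, c.x_mul_self, one_mul]
    have h := commute_of_pow h2 (huQ _ (hx13 3 (by omega) (by omega))) (Nat.coprime_two_left.2 hn)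
    rw [h.eq, mul_inv_cancel_right] at hu3
    exact c.x_ne_one 2 (right_eq_mul.1 hu3)
  have e' : ⁅c.x 1, c.x 4⁆ = c.x 2 * c.x 3 := by
    have := congrArg c.φ.toMonoidHom e
    simp only [map_commutatorElement, map_mul, MulEquiv.coe_toMonoidHom, c.shift] at this
    norm_num at this
    exact this
  rw [commutatorElement_def, c.x_inv, c.x_inv] at e'
  have h41 : c.x 4 * c.x 1 * c.x 4 = c.x 1 * (c.x 2 * c.x 3) := by
    rw [← e']; simp only [← mul_assoc, c.x_mul_self, one_mul]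
  rw [e] at hu3
  have h1 : u * c.x 1 * u⁻¹ = c.x 3 := by
    have h03 : c.x 0 * c.x 3 * c.x 0 = c.x 1 * c.x 2 * c.x 3 := by
      have e2 := e
      rw [commutatorElement_def, c.x_inv, c.x_inv] at e2
      rw [← e2, mul_assoc _ (c.x 3) (c.x 3), c.x_mul_self, mul_one]
    have h12 : c.x 0 * (c.x 1 * c.x 2) = c.x 1 * c.x 2 * c.x 0 := by
      rw [← mul_assoc, hc 0 1 (by omega) (by omega), mul_assoc, hc 0 2 (by omega) (by omega),
        ← mul_assoc]
    rw [hui, hu]
    calc c.x 0 * c.x 4 * c.x 1 * (c.x 4 * c.x 0)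
        = c.x 0 * (c.x 4 * c.x 1 * c.x 4) * c.x 0 := by group
      _ = c.x 0 * (c.x 1 * c.x 2) * c.x 3 * c.x 0 := by rw [h41]; group
      _ = c.x 1 * c.x 2 * (c.x 0 * c.x 3 * c.x 0) := by rw [h12]; group
      _ = c.x 3 := by
          rw [h03, hc 1 2 (by omega) (by omega)]
          simp only [← mul_assoc]
          rw [mul_assoc (c.x 2) (c.x 1) (c.x 2), hc 1 2 (by omega) (by omega)]
          simp only [← mul_assoc, c.x_mul_self, one_mul]
  have h3 : u * (c.x 1 * c.x 2 * c.x 3) * u⁻¹ = c.x 1 := by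
    calc u * (c.x 1 * c.x 2 * c.x 3) * u⁻¹
        = (u * c.x 1 * u⁻¹) * (u * c.x 2 * u⁻¹) * (u * c.x 3 * u⁻¹) := by group
      _ = c.x 3 * (c.x 2 * (c.x 1 * c.x 2) * c.x 3) := by
          rw [h1, hu3, hu2.eq, mul_inv_cancel_right]; group
      _ = c.x 1 := by
          rw [hc 1 2 (by omega) (by omega), ← mul_assoc (c.x 2), c.x_mul_self, one_mul,
            hc 1 3 (by omega) (by omega), ← mul_assoc, c.x_mul_self, one_mul]
  refine ⟨hu2, mem_centralizer_iff.2 fun y hy => ?_, fun q hq hcq => ?_⟩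
  · refine (Chain.commute_of_mem_win hy fun j hj1 hj2 => ?_).eq
    rcases (show j = 1 ∨ j = 2 ∨ j = 3 by omega) with rfl | rfl | rfl
    · exact (cube_fix h1 hu3 h3).symm
    · exact (hu2.pow_left 3).symm
    · exact (cube_fix hu3 h3 h1).symm
  -- the fixed points
  have hne : ∀ i j : ℤ, i < j → j < i + 4 → c.x i ≠ c.x j := fun i j h1 h2 e => by
    obtain ⟨m, hm⟩ : ∃ m : ℕ, j = i + m := ⟨(j - i).toNat, by omega⟩
    refine c.x_ne_one i (c.eq_one_of_mem_win (n := m) (a := i) (m := 1) (by omega)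
      (mem_win le_rfl (by omega)) ?_)
    rw [e]
    exact mem_win (by omega) (by omega)
  have key : ∀ p, Commute u p → (p = 1 ∨ p = c.x 1 ∨ p = c.x 3 ∨ p = c.x 1 * c.x 3) → p = 1 := by
    intro p hp hp'
    rcases hp' with rfl | rfl | rfl | rfl
    · rfl
    · rw [hp.eq, mul_inv_cancel_right] at h1
      exact absurd h1 (hne 1 3 (by omega) (by omega))
    · rw [hp.eq, mul_inv_cancel_right] at hu3
      refine absurd ?_ (hne 1 2 (by omega) (by omega))
      exact (mul_eq_one_iff_eq_inv.1 (right_eq_mul.1 hu3)).trans (c.x_inv 2)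
    · exfalso
      have e13 : u * (c.x 1 * c.x 3) * u⁻¹ = c.x 1 * c.x 3 := by
        rw [hp.eq, mul_inv_cancel_right]
      have e13' : u * (c.x 1 * c.x 3) * u⁻¹ = c.x 3 * (c.x 1 * c.x 2 * c.x 3) := by
        calc _ = (u * c.x 1 * u⁻¹) * (u * c.x 3 * u⁻¹) := by group
          _ = _ := by rw [h1, hu3]
      rw [e13] at e13'
      have e12 : c.x 1 * c.x 3 = c.x 1 * c.x 2 := by
        rw [e13', ← mul_assoc, ← mul_assoc, hc 3 1 (by omega) (by omega),
          mul_assoc (c.x 1) (c.x 3) (c.x 2), hc 3 2 (by omega) (by omega)]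
        simp only [← mul_assoc]
        rw [mul_assoc _ (c.x 3) (c.x 3), c.x_mul_self, mul_one]
      exact hne 2 3 (by omega) (by omega) (mul_left_cancel e12).symm
  have hdec : ∃ p, (p = 1 ∨ p = c.x 1 ∨ p = c.x 3 ∨ p = c.x 1 * c.x 3) ∧
      (q = p ∨ q = c.x 2 * p) := by
    rcases Chain.mem_win_or (i := 1) (n := 2) (by omega) hq with h | h
    · rcases Chain.mem_win_or (i := 1 + 1) (n := 1) (by omega) h with h' | h' <;>
        rcases win_one h' with e' | e' <;> norm_num at e'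
      · exact ⟨1, by simp, Or.inl e'⟩
      · exact ⟨c.x 3, by simp, Or.inl e'⟩
      · refine ⟨1, by simp, Or.inr ?_⟩
        rw [mul_one]; exact eq_x_of_mul e'
      · refine ⟨c.x 3, by simp, Or.inr ?_⟩
        rw [← e', ← mul_assoc, c.x_mul_self, one_mul]
    · rcases Chain.mem_win_or (i := 1 + 1) (n := 1) (by omega) h with h' | h' <;>
        rcases win_one h' with e' | e' <;> norm_num at e'
      · exact ⟨c.x 1, by simp, Or.inl (eq_x_of_mul e')⟩
      · refine ⟨c.x 1 * c.x 3, by simp, Or.inl ?_⟩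
        rw [← e', ← mul_assoc, c.x_mul_self, one_mul]
      · refine ⟨c.x 1, by simp, Or.inr ?_⟩
        exact (q_eq e').trans (hc 1 2 (by omega) (by omega))
      · refine ⟨c.x 1 * c.x 3, by simp, Or.inr ?_⟩
        rw [← e', ← mul_assoc (c.x 2) (c.x 1), ← hc 1 2 (by omega) (by omega)]
        simp only [← mul_assoc]
        rw [mul_assoc (c.x 1) (c.x 2) (c.x 2), c.x_mul_self, mul_one, c.x_mul_self, one_mul]
  obtain ⟨p, hp, rfl | rfl⟩ := hdec
  · exact Or.inl (key _ hcq hp)
  · right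
    have hp' : Commute u p := by
      have := hu2.inv_right.mul_right hcq
      rwa [inv_mul_cancel_left] at this
    rw [key _ hp' hp, mul_one]
where
  eq_x_of_mul {i : ℤ} {y : G} (h : c.x i * y = 1) : y = c.x i := by
    rw [← c.x_inv i]; exact eq_inv_of_mul_eq_one_right h
  q_eq {y : G} (h : c.x 2 * (c.x 1 * y) = 1) : y = c.x 1 * c.x 2 := by
    have h1 := eq_x_of_mul h
    rw [← h1, ← mul_assoc, c.x_mul_self, one_mul]

end Cfsg.Agent.Lib.DihedralCore
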