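import Cfsg.Prelude.Def_CaseTheorems
import Mathlib
import Cfsg.Agent.Lib.PSolvable.Core

/-!
Groups `K` with an elementary abelian normal 2-subgroup `Q` and a complement generated by an
element `c` of odd order and an involution `a` inverting it: `K` modulo its odd core when
`Q` is small.
-/

set_option autoImplicit false
set_option linter.style.haveILetI false

namespace Cfsg.Agent.Lib.DihedralCore

open Subgroup

variable {K : Type*} [Group K]

/-- `K = Q ⟨c, a⟩` of order `|Q| * 2n`, `Q` elementary abelian normal, `c ^ n = 1` with `n` odd,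
`a` an involution inverting `c`. -/
structure Split (Q : Subgroup K) (a c : K) (n : ℕ) : Prop where
  normal : Q.Normal
  invol : ∀ q ∈ Q, q * q = 1
  comm : ∀ q ∈ Q, ∀ r ∈ Q, Commute q r
  ha : a * a = 1
  odd : Odd n
  hc : c ^ n = 1
  inv : a * c * a⁻¹ = c⁻¹
  gen : Q ⊔ (zpowers c ⊔ zpowers a) = ⊤
  card : Nat.card K = Nat.card Q * (2 * n)

namespace Split

variable {Q : Subgroup K} {a c : K} {n : ℕ}

theorem inv' (h : Split Q a c n) (i : ℤ) : a * c ^ i = (c ^ i)⁻¹ * a := by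
  have e : a * c ^ i * a⁻¹ = (c ^ i)⁻¹ := by rw [← conj_zpow, h.inv, inv_zpow]
  rw [← e, inv_mul_cancel_right]

theorem conj_zpowers (h : Split Q a c n) : zpowers a ≤ normalizer (zpowers c : Set K) := by
  have key : ∀ x ∈ zpowers c, a * x * a⁻¹ ∈ zpowers c := by
    intro x hx
    obtain ⟨i, rfl⟩ := mem_zpowers_iff.1 hx
    rw [h.inv', mul_inv_cancel_right]
    exact inv_mem (zpow_mem (mem_zpowers c) i)
  refine zpowers_le.2 (mem_normalizer_iff.2 fun x => ⟨key x, fun hx => ?_⟩)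
  have := key _ hx
  rwa [inv_eq_of_mul_eq_one_right h.ha,
    show a * (a * x * a) * a = (a * a) * x * (a * a) by group, h.ha, one_mul, mul_one] at this

/-- The elements of the complement. -/
theorem mem_sup (h : Split Q a c n) {s : K} (hs : s ∈ zpowers c ⊔ zpowers a) :
    ∃ i : ℤ, s = c ^ i ∨ s = c ^ i * a := by
  rw [← SetLike.mem_coe, coe_mul_of_right_le_normalizer_left _ _ h.conj_zpowers] at hs
  obtain ⟨x, hx, y, hy, rfl⟩ := hs
  obtain ⟨i, rfl⟩ := mem_zpowers_iff.1 hx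
  obtain ⟨j, rfl⟩ := mem_zpowers_iff.1 hy
  refine ⟨i, ?_⟩
  rcases Int.even_or_odd' j with ⟨m, rfl | rfl⟩
  · left
    rw [zpow_mul, zpow_two, h.ha, one_zpow]
    exact mul_one _
  · right
    rw [zpow_add, zpow_mul, zpow_two, h.ha, one_zpow, one_mul, zpow_one]

theorem n_pos (h : Split Q a c n) : 0 < n := h.odd.pos

variable [Finite K]

theorem card_complement_le (h : Split Q a c n) :
    Nat.card ↥(zpowers c ⊔ zpowers a) ≤ 2 * n := by
  let f : zpowers c × zpowers a → ↥(zpowers c ⊔ zpowers a) := fun p =>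
    ⟨(p.1 : K) * p.2, mul_mem (mem_sup_left p.1.2) (mem_sup_right p.2.2)⟩
  have hf : Function.Surjective f := by
    rintro ⟨s, hs⟩
    rw [← SetLike.mem_coe, coe_mul_of_right_le_normalizer_left _ _ h.conj_zpowers] at hs
    obtain ⟨x, hx, y, hy, e⟩ := hs
    exact ⟨(⟨x, hx⟩, ⟨y, hy⟩), Subtype.ext e⟩
  refine (Nat.card_le_card_of_surjective f hf).trans ?_
  rw [Nat.card_prod, mul_comm 2 n, Nat.card_zpowers, Nat.card_zpowers]
  refine Nat.mul_le_mul (orderOf_le_of_pow_eq_one h.n_pos h.hc) ?_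
  exact orderOf_le_of_pow_eq_one two_pos (by rw [sq]; exact h.ha)

theorem facts (h : Split Q a c n) :
    Q ⊓ (zpowers c ⊔ zpowers a) = ⊥ ∧ Nat.card ↥(zpowers c ⊔ zpowers a) = 2 * n := by
  haveI := h.normal
  set S := zpowers c ⊔ zpowers a
  let f : Q × S → K := fun p => (p.1 : K) * p.2
  have hf : Function.Surjective f := fun k => by
    have hk : k ∈ ((Q ⊔ S : Subgroup K) : Set K) := by rw [h.gen]; trivial
    rw [normal_mul] at hk
    obtain ⟨q, hq, s, hs, e⟩ := hk
    exact ⟨(⟨q, hq⟩, ⟨s, hs⟩), e⟩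
  have hle := Nat.card_le_card_of_surjective f hf
  rw [Nat.card_prod, h.card] at hle
  have hS : Nat.card S = 2 * n :=
    le_antisymm h.card_complement_le (Nat.le_of_mul_le_mul_left hle Nat.card_pos)
  refine ⟨?_, hS⟩
  have hbij : Function.Bijective f :=
    (Nat.bijective_iff_surjective_and_card f).2 ⟨hf, by rw [Nat.card_prod, hS, h.card]⟩
  rw [eq_bot_iff_forall]
  rintro x ⟨hx, hx'⟩
  have := hbij.1 (a₁ := (⟨x, hx⟩, 1)) (a₂ := (1, ⟨x, hx'⟩))
    (show x * (1 : K) = (1 : K) * x by rw [one_mul, mul_one])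
  exact congrArg Subtype.val (congrArg Prod.fst this)

theorem eq_one_of_mem (h : Split Q a c n) {x : K} (hx : x ∈ Q)
    (hx' : x ∈ zpowers c ⊔ zpowers a) : x = 1 := by
  have : x ∈ Q ⊓ (zpowers c ⊔ zpowers a) := ⟨hx, hx'⟩
  rwa [h.facts.1, mem_bot] at this

theorem a_notMem (h : Split Q a c n) : a ∉ Q ⊔ zpowers c := by
  haveI := h.normal
  intro ha
  have htop : Q ⊔ zpowers c = ⊤ := top_le_iff.1 (h.gen ▸ sup_le le_sup_left
    (sup_le le_sup_right (zpowers_le.2 ha)))
  let f : Q × zpowers c → K := fun p => (p.1 : K) * p.2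
  have hf : Function.Surjective f := fun k => by
    have hk : k ∈ ((Q ⊔ zpowers c : Subgroup K) : Set K) := by rw [htop]; trivial
    rw [normal_mul] at hk
    obtain ⟨q, hq, s, hs, e⟩ := hk
    exact ⟨(⟨q, hq⟩, ⟨s, hs⟩), e⟩
  have hle := Nat.card_le_card_of_surjective f hf
  rw [Nat.card_prod, h.card, Nat.card_zpowers] at hle
  have h1 := orderOf_le_of_pow_eq_one h.n_pos h.hc
  have h2 := Nat.le_of_mul_le_mul_left hle Nat.card_pos
  have := h.n_pos
  omega

/-- The decomposition of `W S` for `W ≤ Q` normalised by the complement `S`. -/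
theorem card_sup (h : Split Q a c n) {W : Subgroup K} (hW : W ≤ Q)
    (hn : zpowers c ⊔ zpowers a ≤ normalizer (W : Set K)) :
    Nat.card ↥(W ⊔ (zpowers c ⊔ zpowers a)) = Nat.card W * (2 * n) := by
  set S := zpowers c ⊔ zpowers a with hS
  let f : W × S → ↥(W ⊔ S) := fun p =>
    ⟨(p.1 : K) * p.2, mul_mem (mem_sup_left p.1.2) (mem_sup_right p.2.2)⟩
  have hf : Function.Bijective f := by
    refine ⟨fun p q e => ?_, ?_⟩
    · have e1 : (p.1 : K) * p.2 = (q.1 : K) * q.2 := congrArg Subtype.val e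
      have e2 : (q.1 : K)⁻¹ * p.1 = q.2 * (p.2 : K)⁻¹ := by
        rw [eq_mul_inv_iff_mul_eq, mul_assoc, e1, inv_mul_cancel_left]
      have e3 : (q.1 : K)⁻¹ * p.1 = 1 := h.eq_one_of_mem (hW (mul_mem (inv_mem q.1.2) p.1.2))
        (e2 ▸ mul_mem q.2.2 (inv_mem p.2.2))
      have e4 : (p.1 : K) = q.1 := (inv_mul_eq_one.1 e3).symm
      exact Prod.ext (Subtype.ext e4) (Subtype.ext (mul_left_cancel (e4 ▸ e1)))
    · rintro ⟨s, hs⟩
      rw [← SetLike.mem_coe, coe_mul_of_right_le_normalizer_left _ _ hn] at hs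
      obtain ⟨x, hx, y, hy, e⟩ := hs
      exact ⟨(⟨x, hx⟩, ⟨y, hy⟩), Subtype.ext e⟩
  rw [← Nat.card_congr (Equiv.ofBijective f hf), Nat.card_prod, h.facts.2]

theorem index_sup (h : Split Q a c n) {W : Subgroup K} (hW : W ≤ Q)
    (hn : zpowers c ⊔ zpowers a ≤ normalizer (W : Set K)) :
    Nat.card W * (W ⊔ (zpowers c ⊔ zpowers a)).index = Nat.card Q := by
  have e := card_mul_index (W ⊔ (zpowers c ⊔ zpowers a))
  rw [h.card_sup hW hn, h.card, mul_right_comm] at e
  exact Nat.eq_of_mul_eq_mul_right (by have := h.n_pos; omega) e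

theorem sup_inf_sup (h : Split Q a c n) {W W' : Subgroup K} (hW : W ≤ Q) (hW' : W' ≤ Q)
    (hn : zpowers c ⊔ zpowers a ≤ normalizer (W : Set K))
    (hn' : zpowers c ⊔ zpowers a ≤ normalizer (W' : Set K)) (hd : W ⊓ W' = ⊥) :
    (W ⊔ (zpowers c ⊔ zpowers a)) ⊓ (W' ⊔ (zpowers c ⊔ zpowers a)) ≤
      zpowers c ⊔ zpowers a := by
  rintro x ⟨hx, hx'⟩
  replace hx : x ∈ ((W ⊔ (zpowers c ⊔ zpowers a) : Subgroup K) : Set K) := hx
  replace hx' : x ∈ ((W' ⊔ (zpowers c ⊔ zpowers a) : Subgroup K) : Set K) := hx'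
  rw [coe_mul_of_right_le_normalizer_left _ _ hn] at hx
  rw [coe_mul_of_right_le_normalizer_left _ _ hn'] at hx'
  obtain ⟨w, hw, s, hs, rfl⟩ := hx
  obtain ⟨w', hw', s', hs', e⟩ := hx'
  have e' : w' * s' = w * s := e
  have e2 : w⁻¹ * w' = s * s'⁻¹ := by
    rw [eq_mul_inv_iff_mul_eq, mul_assoc, e', inv_mul_cancel_left]
  have e3 : w⁻¹ * w' = 1 := h.eq_one_of_mem (mul_mem (inv_mem (hW hw)) (hW' hw'))
    (e2 ▸ mul_mem hs (inv_mem hs'))
  have e4 : w ∈ W ⊓ W' := ⟨hw, (inv_mul_eq_one.1 e3) ▸ hw'⟩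
  rw [hd, mem_bot] at e4
  show w * s ∈ _
  rw [e4, one_mul]; exact hs

/-- The part of `⟨c⟩` centralising `Q`. -/
theorem fix_normal (h : Split Q a c n) :
    (zpowers c ⊓ centralizer (Q : Set K)).Normal := by
  haveI := h.normal
  refine normalizer_eq_top_iff.1 (top_le_iff.1 ?_)
  have hC : (centralizer (Q : Set K)).Normal := ⟨fun x hx g => mem_centralizer_iff.2 fun q hq => by
    have h1 : g⁻¹ * q * g * x = x * (g⁻¹ * q * g) := mem_centralizer_iff.1 hx _ (by
      simpa using Normal.conj_mem h.normal q hq g⁻¹)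
    calc q * (g * x * g⁻¹) = g * (g⁻¹ * q * g * x) * g⁻¹ := by group
      _ = g * (x * (g⁻¹ * q * g)) * g⁻¹ := by rw [h1]
      _ = g * x * g⁻¹ * q := by group⟩
  have hSn : zpowers c ⊔ zpowers a ≤
      normalizer ((zpowers c ⊓ centralizer (Q : Set K) : Subgroup K) : Set K) := by
    intro s hs
    have h1 : s ∈ normalizer (zpowers c : Set K) :=
      (sup_le Subgroup.le_normalizer h.conj_zpowers) hs
    rw [mem_normalizer_iff]
    intro x
    refine and_congr (mem_normalizer_iff.1 h1 x) ⟨fun hx => hC.conj_mem x hx s, fun hx => ?_⟩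
    simpa [mul_assoc] using hC.conj_mem _ hx s⁻¹
  rw [← h.gen]
  refine sup_le (fun q hq => mem_normalizer_iff.2 fun x => ?_) hSn
  constructor
  · intro hx
    have : q * x = x * q := mem_centralizer_iff.1 hx.2 q hq
    rwa [this, mul_inv_cancel_right]
  · intro hx
    have h2 : q * (q * x * q⁻¹) = q * x * q⁻¹ * q := mem_centralizer_iff.1 hx.2 q hq
    have h3 : q * x * q⁻¹ = x := by
      rw [inv_mul_cancel_right] at h2
      exact mul_left_cancel h2
    rwa [h3] at hx

theorem odd_dvd (h : Split Q a c n) {m : ℕ} (hm : m ∣ n) : Odd m :=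
  Odd.of_dvd_nat h.odd hm

theorem fix_odd (h : Split Q a c n) :
    Odd (Nat.card ↥(zpowers c ⊓ centralizer (Q : Set K))) := by
  refine h.odd_dvd ((card_dvd_of_le inf_le_left).trans ?_)
  rw [Nat.card_zpowers]
  exact orderOf_dvd_of_pow_eq_one h.hc

/-- The part of `⟨c⟩` centralising `Q` is the odd core. -/
theorem oddCore_eq (h : Split Q a c n) :
    Cfsg.oddCore K = zpowers c ⊓ centralizer (Q : Set K) := by
  haveI := h.normal
  haveI : Fact (Nat.Prime 2) := ⟨Nat.prime_two⟩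
  haveI := h.fix_normal
  refine le_antisymm (fun x hx => ?_)
    (PSolvable.le_pPrimeCore (Nat.coprime_two_right.2 h.fix_odd))
  have hN : (Nat.card (Cfsg.oddCore K)).Coprime 2 := PSolvable.pPrimeCore_coprime
  haveI : (Cfsg.oddCore K).Normal := Cfsg.pPrimeCore_normal 2 K
  have hQodd : ∀ q ∈ Q, q ∈ Cfsg.oddCore K → q = 1 := fun q hq hq' => by
    have h1 : orderOf q ∣ 2 := orderOf_dvd_of_pow_eq_one (by rw [sq]; exact h.invol q hq)
    have h2 : orderOf q ∣ Nat.card (Cfsg.oddCore K) := Subgroup.orderOf_dvd_natCard _ hq'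
    exact orderOf_eq_one_iff.1 (Nat.eq_one_of_dvd_coprimes hN h2 h1)
  have hxQ : ∀ q ∈ Q, q * x = x * q := fun q hq => by
    have h1 : q * x * q⁻¹ * x⁻¹ ∈ Q := by
      have := mul_mem hq (Normal.conj_mem h.normal q⁻¹ (inv_mem hq) x)
      simpa [mul_assoc] using this
    have h2 : q * x * q⁻¹ * x⁻¹ ∈ Cfsg.oddCore K :=
      mul_mem (Normal.conj_mem inferInstance x hx q) (inv_mem hx)
    have := hQodd _ h1 h2
    rwa [mul_inv_eq_one, mul_inv_eq_iff_eq_mul] at this
  -- `x` has odd order, so it lies in `Q ⟨c⟩`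
  have hE : x ∈ Q ⊔ zpowers c := by
    obtain ⟨k, hk⟩ : Odd (orderOf x) :=
      (Nat.coprime_two_right.1 hN).of_dvd_nat (Subgroup.orderOf_dvd_natCard _ hx)
    have hx2 : x * x ∈ Q ⊔ zpowers c := by
      have hk' : x ∈ ((Q ⊔ (zpowers c ⊔ zpowers a) : Subgroup K) : Set K) := by
        rw [h.gen]; trivial
      rw [normal_mul] at hk'
      obtain ⟨q, hq, s, hs, e⟩ := hk'
      have e : q * s = x := e
      obtain ⟨i, rfl | rfl⟩ := h.mem_sup hs
      · exact e ▸ mul_mem (mul_mem (mem_sup_left hq) (mem_sup_right (zpow_mem (mem_zpowers c) i)))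
          (mul_mem (mem_sup_left hq) (mem_sup_right (zpow_mem (mem_zpowers c) i)))
      · rw [← e]
        have e2 : q * (c ^ i * a) * (q * (c ^ i * a)) =
            q * ((c ^ i * a) * q * (c ^ i * a)⁻¹) * ((c ^ i * a) * (c ^ i * a)) := by group
        have e3 : (c ^ i * a) * (c ^ i * a) = 1 := by
          rw [mul_assoc, ← mul_assoc a, h.inv', inv_mul_cancel_right_aux _ _ h.ha,
            mul_inv_cancel]
        rw [e2, e3, mul_one]
        exact mem_sup_left (mul_mem hq (Normal.conj_mem h.normal q hq _))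
    have h1 : x ^ (2 * k + 1) = 1 := hk ▸ pow_orderOf_eq_one x
    rw [pow_succ, pow_mul] at h1
    rw [← inv_inv x, ← eq_inv_of_mul_eq_one_left h1]
    exact inv_mem (pow_mem (by rw [sq]; exact hx2) k)
  rw [← SetLike.mem_coe, normal_mul] at hE
  obtain ⟨q, hq, s, hs, e⟩ := hE
  have e : q * s = x := e
  have hsC : s ∈ centralizer (Q : Set K) := mem_centralizer_iff.2 fun r hr => by
    have h1 : r * (q * s) = q * s * r := e.symm ▸ hxQ r hr
    rw [← mul_assoc, (h.comm r hr q hq).eq, mul_assoc, mul_assoc] at h1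
    exact mul_left_cancel h1
  have hsO : s ∈ zpowers c ⊓ centralizer (Q : Set K) := ⟨hs, hsC⟩
  have hsN : s ∈ Cfsg.oddCore K :=
    (PSolvable.le_pPrimeCore (Nat.coprime_two_right.2 h.fix_odd) :
      zpowers c ⊓ centralizer (Q : Set K) ≤ Cfsg.oddCore K) hsO
  have hqN : q ∈ Cfsg.oddCore K := by
    have := mul_mem hx (inv_mem hsN)
    rwa [← e, mul_inv_cancel_right] at this
  rw [← e, hQodd q hq hqN, one_mul]
  exact hsO
where
  inv_mul_cancel_right_aux (u v : K) (hv : v * v = 1) : u * v * v = u := by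
    rw [mul_assoc, hv, mul_one]

/-- A normal subgroup inside the complement centralises `Q` and lies in `⟨c⟩`. -/
theorem normal_le (h : Split Q a c n) (hnc : ∃ q ∈ Q, ¬ Commute c q) {N : Subgroup K}
    (hN : N.Normal) (hNS : N ≤ zpowers c ⊔ zpowers a) :
    N ≤ zpowers c ⊓ centralizer (Q : Set K) := by
  have hcent : ∀ x ∈ N, x ∈ centralizer (Q : Set K) := fun x hx =>
    mem_centralizer_iff.2 fun q hq => by
      have h1 : q * x * q⁻¹ * x⁻¹ ∈ Q := by
        have := mul_mem hq (h.normal.conj_mem q⁻¹ (inv_mem hq) x)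
        simpa [mul_assoc] using this
      have h2 : q * x * q⁻¹ * x⁻¹ ∈ zpowers c ⊔ zpowers a :=
        hNS (mul_mem (hN.conj_mem x hx q) (inv_mem hx))
      have := h.eq_one_of_mem h1 h2
      rwa [mul_inv_eq_one, mul_inv_eq_iff_eq_mul] at this
  intro x hx
  obtain ⟨i, rfl | rfl⟩ := h.mem_sup (hNS hx)
  · exact ⟨zpow_mem (mem_zpowers c) i, hcent _ hx⟩
  · exfalso
    obtain ⟨q, hq, hcq⟩ := hnc
    refine hcq ?_
    have hac : a * c⁻¹ = c * a := by
      have := h.inv' (-1)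
      simpa using this
    have h2 : c ^ 2 ∈ centralizer (Q : Set K) := by
      have h3 : c * (c ^ i * a) * c⁻¹ * (c ^ i * a)⁻¹ ∈ N :=
        mul_mem (hN.conj_mem _ hx c) (inv_mem hx)
      have e : c * (c ^ i * a) * c⁻¹ * (c ^ i * a)⁻¹ = c ^ 2 := by
        calc c * (c ^ i * a) * c⁻¹ * (c ^ i * a)⁻¹
            = c * c ^ i * (a * c⁻¹) * a⁻¹ * (c ^ i)⁻¹ := by group
          _ = c * c ^ i * (c * a) * a⁻¹ * (c ^ i)⁻¹ := by rw [hac]
          _ = c ^ 2 := by group
      rw [e] at h3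
      exact hcent _ h3
    obtain ⟨k, hk⟩ := h.odd
    have hcc : c ∈ centralizer (Q : Set K) := by
      have h1 := h.hc
      rw [hk, pow_succ, pow_mul] at h1
      rw [← inv_inv c, ← eq_inv_of_mul_eq_one_left h1]
      exact inv_mem (pow_mem h2 k)
    exact (mem_centralizer_iff.1 hcc q hq).symm

theorem relIndex_fix (h : Split Q a c n) (hnc : ∃ q ∈ Q, ¬ Commute c q)
    (h3 : c ^ 3 ∈ centralizer (Q : Set K)) :
    3 * Nat.card ↥(zpowers c ⊓ centralizer (Q : Set K)) = Nat.card (zpowers c) := by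
  set O := zpowers c ⊓ centralizer (Q : Set K)
  have hle : O ≤ zpowers c := inf_le_left
  obtain ⟨k, hk⟩ := card_dvd_of_le hle
  have hk3 : k ≤ 3 := by
    have h4 : Nat.card (zpowers (c ^ 3)) ∣ Nat.card O :=
      card_dvd_of_le (zpowers_le.2 ⟨pow_mem (mem_zpowers c) 3, h3⟩)
    rw [Nat.card_zpowers] at h4 hk
    rw [orderOf_pow' c three_ne_zero] at h4
    have hg : Nat.gcd (orderOf c) 3 ≤ 3 := Nat.le_of_dvd (by norm_num) (Nat.gcd_dvd_right _ _)
    have hpos : 0 < Nat.card O := Nat.card_pos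
    have hle' := Nat.le_of_dvd hpos h4
    have hm := Nat.div_mul_cancel (Nat.gcd_dvd_left (orderOf c) 3)
    by_contra hh
    push Not at hh
    nlinarith
  have hodd : Odd k := by
    refine h.odd_dvd (dvd_trans (b := Nat.card (zpowers c)) ⟨Nat.card O, by rw [hk, mul_comm]⟩ ?_)
    rw [Nat.card_zpowers]
    exact orderOf_dvd_of_pow_eq_one h.hc
  have hk1 : k ≠ 1 := by
    rintro rfl
    rw [mul_one] at hk
    have : O = zpowers c := eq_of_le_of_card_ge hle hk.le
    obtain ⟨q, hq, hcq⟩ := hnc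
    have hcO : c ∈ O := this ▸ mem_zpowers c
    exact hcq (mem_centralizer_iff.1 hcO.2 q hq).symm
  obtain ⟨m, hm⟩ := hodd
  obtain rfl : k = 3 := by omega
  rw [hk, mul_comm]

theorem card_zpowers_c (h : Split Q a c n) : Nat.card (zpowers c) = n := by
  refine le_antisymm ?_ ?_
  · rw [Nat.card_zpowers]
    exact orderOf_le_of_pow_eq_one h.n_pos h.hc
  · let f : zpowers c × zpowers a → ↥(zpowers c ⊔ zpowers a) := fun p =>
      ⟨(p.1 : K) * p.2, mul_mem (mem_sup_left p.1.2) (mem_sup_right p.2.2)⟩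
    have hf : Function.Surjective f := by
      rintro ⟨s, hs⟩
      rw [← SetLike.mem_coe, coe_mul_of_right_le_normalizer_left _ _ h.conj_zpowers] at hs
      obtain ⟨x, hx, y, hy, e⟩ := hs
      exact ⟨(⟨x, hx⟩, ⟨y, hy⟩), Subtype.ext e⟩
    have := Nat.card_le_card_of_surjective f hf
    rw [Nat.card_prod, h.facts.2, Nat.card_zpowers a] at this
    have h2 : orderOf a ≤ 2 := orderOf_le_of_pow_eq_one two_pos (by rw [sq]; exact h.ha)
    nlinarith

end Split

/-- A subgroup of index 2 as a kernel. -/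
theorem exists_hom_of_index_two {M : Subgroup K} (hM : M.index = 2) :
    ∃ f : K →* Multiplicative (ZMod 2), f.ker = M := by
  haveI : M.Normal := normal_of_index_eq_two hM
  haveI : Fact (Nat.Prime 2) := ⟨Nat.prime_two⟩
  have h1 : Nat.card (K ⧸ M) = 2 := hM
  have h2 : Nat.card (Multiplicative (ZMod 2)) = 2 := by
    rw [Nat.card_congr Multiplicative.toAdd, Nat.card_zmod]
  haveI : IsCyclic (K ⧸ M) := isCyclic_of_prime_card h1
  let e : K ⧸ M ≃* Multiplicative (ZMod 2) := mulEquivOfCyclicCardEq (h1.trans h2.symm)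
  refine ⟨e.toMonoidHom.comp (QuotientGroup.mk' M), ?_⟩
  ext x
  rw [MonoidHom.mem_ker, MonoidHom.comp_apply, MulEquiv.coe_toMonoidHom, MulEquiv.map_eq_one_iff,
    QuotientGroup.mk'_apply, QuotientGroup.eq_one_iff]

/-- The action on the four cosets of a subgroup of index 4. -/
theorem exists_hom_of_index_four {L : Subgroup K} (hL : L.index = 4) :
    ∃ f : K →* Equiv.Perm (Fin 4), f.ker = L.normalCore := by
  haveI : Finite (K ⧸ L) := Nat.finite_of_card_ne_zero (by rw [← index_eq_card, hL]; norm_num)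
  let e : K ⧸ L ≃ Fin 4 := Finite.equivFinOfCardEq hL
  refine ⟨(e.permCongrHom : Equiv.Perm (K ⧸ L) ≃* _).toMonoidHom.comp
    (MulAction.toPermHom K (K ⧸ L)), ?_⟩
  rw [normalCore_eq_ker]
  ext x
  rw [MonoidHom.mem_ker, MonoidHom.comp_apply, MulEquiv.coe_toMonoidHom, MulEquiv.map_eq_one_iff,
    MonoidHom.mem_ker]

variable [Finite K]

theorem iso_of_ker {T : Type*} [Group T] [Finite T] (f : K →* T) (hker : f.ker = Cfsg.oddCore K)
    (hcard : Nat.card T * Nat.card (Cfsg.oddCore K) = Nat.card K) :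
    Nonempty (K ⧸ Cfsg.oddCore K ≃* T) := by
  haveI : (Cfsg.oddCore K).Normal := Cfsg.pPrimeCore_normal 2 K
  have hs : Function.Surjective f := by
    rw [← MonoidHom.range_eq_top]
    refine eq_top_of_card_eq _ ?_
    have h1 := card_mul_index f.ker
    rw [index_ker, hker] at h1
    refine Nat.eq_of_mul_eq_mul_right (Nat.card_pos (α := Cfsg.oddCore K)) ?_
    rw [hcard, ← h1, mul_comm]
  exact ⟨(QuotientGroup.quotientMulEquivOfEq hker.symm).trans
    (QuotientGroup.quotientKerEquivOfSurjective f hs)⟩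

theorem card_perm_four : Nat.card (Equiv.Perm (Fin 4)) = 24 := by
  rw [Nat.card_perm, Nat.card_fin]; rfl

theorem card_two : Nat.card (Multiplicative (ZMod 2)) = 2 := by
  rw [Nat.card_congr Multiplicative.toAdd, Nat.card_zmod]

variable {Q : Subgroup K} {a c : K} {n : ℕ}

/-- `|Q| = 2` and `c` centralises `Q`. -/
theorem Split.iso_two (h : Split Q a c n) (hQ : Nat.card Q = 2)
    (hcQ : c ∈ centralizer (Q : Set K)) :
    Nonempty (K ⧸ Cfsg.oddCore K ≃* Multiplicative (ZMod 2) × Multiplicative (ZMod 2)) := by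
  haveI := h.normal
  set S := zpowers c ⊔ zpowers a with hS
  have hiS : S.index = 2 := by
    have := h.index_sup (W := ⊥) bot_le (le_top.trans (normalizer_eq_top_iff.2 inferInstance).ge)
    rwa [bot_sup_eq, card_bot, one_mul, hQ] at this
  have hiM : (Q ⊔ zpowers c).index = 2 := by
    rw [index_eq_two_iff]
    refine ⟨a, fun b => ?_⟩
    have hb : b ∈ ((Q ⊔ S : Subgroup K) : Set K) := by rw [h.gen]; trivial
    rw [normal_mul] at hb
    obtain ⟨q, hq, s, hs, rfl⟩ := hb
    have hq' : q ∈ Q ⊔ zpowers c := mem_sup_left hq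
    obtain ⟨i, rfl | rfl⟩ := h.mem_sup hs
    · refine Or.inr ⟨mul_mem hq' (mem_sup_right (zpow_mem (mem_zpowers c) i)), fun hh => ?_⟩
      exact h.a_notMem ((Subgroup.mul_mem_cancel_left _
        (mul_mem hq' (mem_sup_right (zpow_mem (mem_zpowers c) i)))).1 hh)
    · refine Or.inl ⟨?_, fun hh => ?_⟩
      · show q * (c ^ i * a) * a ∈ _
        rw [mul_assoc, mul_assoc, h.ha, mul_one]
        exact mul_mem hq' (mem_sup_right (zpow_mem (mem_zpowers c) i))
      · have hh : q * (c ^ i * a) ∈ Q ⊔ zpowers c := hh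
        rw [← mul_assoc] at hh
        exact h.a_notMem ((Subgroup.mul_mem_cancel_left _
          (mul_mem hq' (mem_sup_right (zpow_mem (mem_zpowers c) i)))).1 hh)
  obtain ⟨f₁, hf₁⟩ := exists_hom_of_index_two hiS
  obtain ⟨f₂, hf₂⟩ := exists_hom_of_index_two hiM
  have hO : Cfsg.oddCore K = zpowers c := by
    rw [h.oddCore_eq, inf_eq_left]
    exact zpowers_le.2 hcQ
  refine iso_of_ker (f₁.prod f₂) ?_ ?_
  · rw [MonoidHom.ker_prod, hf₁, hf₂, hO]
    refine le_antisymm ?_ (le_inf le_sup_left le_sup_right)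
    rintro x ⟨hx, hx'⟩
    obtain ⟨i, rfl | rfl⟩ := h.mem_sup hx
    · exact zpow_mem (mem_zpowers c) i
    · exfalso
      exact h.a_notMem ((Subgroup.mul_mem_cancel_left _ (mem_sup_right (zpow_mem (mem_zpowers c) i))).1 hx')
  · rw [hO, h.card, hQ, h.card_zpowers_c, Nat.card_prod, card_two]
    ring

/-- `|Q| = 4` with `c` acting as an element of order 3. -/
theorem Split.iso_four (h : Split Q a c n) (hQ : Nat.card Q = 4)
    (hnc : ∃ q ∈ Q, ¬ Commute c q) (h3 : c ^ 3 ∈ centralizer (Q : Set K)) :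
    Nonempty (K ⧸ Cfsg.oddCore K ≃* Equiv.Perm (Fin 4)) := by
  set S := zpowers c ⊔ zpowers a with hS
  have hiS : S.index = 4 := by
    have := h.index_sup (W := ⊥) bot_le (le_top.trans (normalizer_eq_top_iff.2 inferInstance).ge)
    rwa [bot_sup_eq, card_bot, one_mul, hQ] at this
  obtain ⟨f, hf⟩ := exists_hom_of_index_four hiS
  refine iso_of_ker f ?_ ?_
  · rw [hf, h.oddCore_eq]
    refine le_antisymm (h.normal_le hnc (normalCore_normal S) (normalCore_le S)) ?_
    haveI := h.fix_normal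
    exact normal_le_normalCore.2 (inf_le_left.trans le_sup_left)
  · rw [h.oddCore_eq, h.card, hQ, card_perm_four]
    have h1 := h.relIndex_fix hnc h3
    rw [h.card_zpowers_c] at h1
    linarith

/-- `|Q| = 8` with `c` fixing exactly a subgroup of order 2. -/
theorem Split.iso_eight (h : Split Q a c n) (hQ : Nat.card Q = 8) {z : K} (hzQ : z ∈ Q)
    (hz1 : z ≠ 1) (hza : Commute a z) (hzc : Commute c z)
    (hfix : ∀ q ∈ Q, Commute c q → q = 1 ∨ q = z) (h3 : c ^ 3 ∈ centralizer (Q : Set K)) :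
    Nonempty (K ⧸ Cfsg.oddCore K ≃* Equiv.Perm (Fin 4) × Multiplicative (ZMod 2)) := by
  haveI := h.normal
  set S := zpowers c ⊔ zpowers a with hS
  have hnc : ∃ q ∈ Q, ¬ Commute c q := by
    by_contra hh
    push Not at hh
    have hle : Q ≤ zpowers z := fun q hq => by
      rcases hfix q hq (hh q hq) with rfl | rfl
      · exact one_mem _
      · exact mem_zpowers _
    have h1 := card_le_of_le hle
    rw [hQ, Nat.card_zpowers] at h1
    have h2 : orderOf z ≤ 2 := orderOf_le_of_pow_eq_one two_pos (by rw [sq]; exact h.invol z hzQ)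
    omega
  have hz2 : Nat.card (zpowers z) = 2 := by
    rw [Nat.card_zpowers]
    exact orderOf_eq_prime (by rw [sq]; exact h.invol z hzQ) hz1
  -- `V`, the commutators of `Q` with `c`
  let κ : Q →* K :=
    { toFun := fun q => (q : K) * (c * (q : K)⁻¹ * c⁻¹)
      map_one' := by simp
      map_mul' := fun q r => by
        have hq' : c * (q : K)⁻¹ * c⁻¹ ∈ Q := h.normal.conj_mem _ (inv_mem q.2) c
        have hr' : c * (r : K)⁻¹ * c⁻¹ ∈ Q := h.normal.conj_mem _ (inv_mem r.2) c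
        calc ((q * r : Q) : K) * (c * ((q * r : Q) : K)⁻¹ * c⁻¹)
            = (q : K) * ((r : K) * (c * (r : K)⁻¹ * c⁻¹) * (c * (q : K)⁻¹ * c⁻¹)) := by
              push_cast; group
          _ = (q : K) * ((c * (q : K)⁻¹ * c⁻¹) * ((r : K) * (c * (r : K)⁻¹ * c⁻¹))) := by
              rw [(h.comm _ (mul_mem r.2 hr') _ hq').eq]
          _ = _ := by group }
  set V := κ.range with hV
  have hκ : ∀ q : Q, κ q = (q : K) * (c * (q : K)⁻¹ * c⁻¹) := fun q => rfl
  have hVQ : V ≤ Q := by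
    rintro _ ⟨q, rfl⟩
    rw [hκ]
    exact mul_mem q.2 (h.normal.conj_mem _ (inv_mem q.2) c)
  have hker : κ.ker = (zpowers z).subgroupOf Q := by
    ext q
    rw [MonoidHom.mem_ker, mem_subgroupOf, hκ]
    constructor
    · intro e
      have hcq : Commute c (q : K) := by
        rw [mul_eq_one_iff_eq_inv] at e
        show c * (q : K) = (q : K) * c
        calc c * (q : K) = (c * (q : K)⁻¹ * c⁻¹)⁻¹ * c := by group
          _ = (q : K) * c := by rw [← e]
      rcases hfix _ q.2 hcq with e' | e' <;> rw [e']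
      · exact one_mem _
      · exact mem_zpowers _
    · intro hq
      obtain ⟨k, hk⟩ := mem_zpowers_iff.1 hq
      rw [← hk, ← zpow_neg, (hzc.zpow_right (-k)).eq, mul_inv_cancel_right, zpow_neg,
        mul_inv_cancel]
  have hVcard : Nat.card V = 4 := by
    have h1 := card_mul_index κ.ker
    rw [index_ker, hker,
      Nat.card_congr (subgroupOfEquivOfLe (zpowers_le.2 hzQ)).toEquiv, hz2, hQ] at h1
    rw [hV]
    omega
  have hzV : z ∉ V := by
    rintro ⟨q, e⟩
    rw [hκ] at e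
    have hcq : c * (q : K) * c⁻¹ = z * q := by
      have e' : c * (q : K) * c⁻¹ = z⁻¹ * (q : K) := by rw [← e]; group
      rwa [inv_eq_of_mul_eq_one_right (h.invol z hzQ)] at e'
    obtain ⟨k, hk⟩ := h.odd
    have hc2 : c ^ 2 ∈ centralizer ({(q : K)} : Set K) := by
      rw [mem_centralizer_singleton_iff]
      have : c ^ 2 * (q : K) * (c ^ 2)⁻¹ = q := by
        calc c ^ 2 * (q : K) * (c ^ 2)⁻¹ = c * (c * (q : K) * c⁻¹) * c⁻¹ := by rw [pow_two]; group
          _ = (c * z) * ((q : K) * c⁻¹) := by rw [hcq]; group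
          _ = (z * c) * ((q : K) * c⁻¹) := by rw [hzc.eq]
          _ = z * (c * (q : K) * c⁻¹) := by group
          _ = q := by rw [hcq, ← mul_assoc, h.invol z hzQ, one_mul]
      exact mul_inv_eq_iff_eq_mul.1 this
    have h1 := h.hc
    rw [hk, pow_succ, pow_mul] at h1
    have hc1 : c ∈ centralizer ({(q : K)} : Set K) := by
      rw [← inv_inv c, ← eq_inv_of_mul_eq_one_left h1]
      exact inv_mem (pow_mem hc2 k)
    rw [mem_centralizer_singleton_iff] at hc1
    rw [hc1, mul_inv_cancel_right] at hcq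
    exact hz1 (right_eq_mul.1 hcq)
  have hVn : S ≤ normalizer (V : Set K) := by
    have key : ∀ s : K, (s = c ∨ s = a) → ∀ v ∈ V, s * v * s⁻¹ ∈ V := by
      rintro s hs _ ⟨q, rfl⟩
      rcases hs with hs | hs <;> rw [hs]
      · refine ⟨⟨c * q * c⁻¹, h.normal.conj_mem _ q.2 c⟩, ?_⟩
        simp only [hκ]
        group
      · -- `a [q, c] a⁻¹ = [q', c⁻¹]`
        set q' : K := a * q * a⁻¹ with hq'
        have hq'Q : q' ∈ Q := h.normal.conj_mem _ q.2 a
        refine ⟨⟨c⁻¹ * q'⁻¹ * c, ?_⟩, ?_⟩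
        · simpa using h.normal.conj_mem _ (inv_mem hq'Q) c⁻¹
        · simp only [hκ]
          have e1 : c⁻¹ * q'⁻¹ * c * (c * (c⁻¹ * q'⁻¹ * c)⁻¹ * c⁻¹) =
              (c⁻¹ * q'⁻¹ * c) * q' := by group
          have e2 : a * ((q : K) * (c * (q : K)⁻¹ * c⁻¹)) * a⁻¹ =
              q' * ((a * c * a⁻¹) * q'⁻¹ * (a * c * a⁻¹)⁻¹) := by rw [hq']; group
          rw [e1, e2, h.inv, inv_inv, (h.comm q' hq'Q _ (by
            simpa using h.normal.conj_mem _ (inv_mem hq'Q) c⁻¹)).eq]
    refine sup_le (zpowers_le.2 ?_) (zpowers_le.2 ?_) <;> refine mem_normalizer_of_map_le ?_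
    · rintro _ ⟨v, hv, rfl⟩; exact key c (Or.inl rfl) v hv
    · rintro _ ⟨v, hv, rfl⟩; exact key a (Or.inr rfl) v hv
  have hZn : S ≤ normalizer (zpowers z : Set K) := by
    refine le_trans ?_ (Subgroup.centralizer_le_normalizer _)
    refine sup_le (zpowers_le.2 ?_) (zpowers_le.2 ?_) <;>
      refine mem_centralizer_iff.2 fun x hx => ?_ <;>
      obtain ⟨k, rfl⟩ := mem_zpowers_iff.1 hx
    · exact (hzc.zpow_right k).eq.symm
    · exact (hza.zpow_right k).eq.symm
  have hiM : (V ⊔ S).index = 2 := by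
    have := h.index_sup hVQ hVn
    rw [hVcard, hQ, ← hS] at this
    omega
  have hiL : (zpowers z ⊔ S).index = 4 := by
    have := h.index_sup (zpowers_le.2 hzQ) hZn
    rw [hz2, hQ, ← hS] at this
    omega
  have hd : zpowers z ⊓ V = ⊥ := by
    rw [eq_bot_iff_forall]
    rintro x ⟨hx, hx'⟩
    obtain ⟨k, rfl⟩ := mem_zpowers_iff.1 hx
    rcases Int.even_or_odd' k with ⟨m, rfl | rfl⟩
    · rw [zpow_mul, zpow_two, h.invol z hzQ, one_zpow]
    · rw [zpow_add, zpow_mul, zpow_two, h.invol z hzQ, one_zpow, one_mul, zpow_one] at hx'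
      exact absurd hx' hzV
  obtain ⟨f₁, hf₁⟩ := exists_hom_of_index_four hiL
  obtain ⟨f₂, hf₂⟩ := exists_hom_of_index_two hiM
  haveI : (V ⊔ S).Normal := normal_of_index_eq_two hiM
  refine iso_of_ker (f₁.prod f₂) ?_ ?_
  · rw [MonoidHom.ker_prod, hf₁, hf₂, h.oddCore_eq]
    refine le_antisymm (h.normal_le hnc inferInstance ?_) (le_inf ?_ ?_)
    · exact (inf_le_inf_right _ (normalCore_le _)).trans
        (h.sup_inf_sup (zpowers_le.2 hzQ) hVQ hZn hVn hd)
    · haveI := h.fix_normal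
      exact normal_le_normalCore.2 (inf_le_left.trans (le_sup_left.trans le_sup_right))
    · exact inf_le_left.trans (le_sup_left.trans le_sup_right)
  · rw [h.oddCore_eq, h.card, hQ, Nat.card_prod, card_perm_four, card_two]
    have h1 := h.relIndex_fix hnc h3
    rw [h.card_zpowers_c] at h1
    linarith
where
  mem_normalizer_of_map_le {S : Subgroup K} {w : K}
      (h : S.map (MulAut.conj w).toMonoidHom ≤ S) : w ∈ normalizer (S : Set K) := by
    have e : S.map (MulAut.conj w).toMonoidHom = S :=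
      eq_of_le_of_card_ge h (card_map_of_injective (MulAut.conj w).injective).ge
    rw [mem_normalizer_iff]
    intro y
    refine ⟨fun hy => h (mem_map_of_mem _ hy), fun hy => ?_⟩
    rw [← e] at hy
    obtain ⟨z, hz, e'⟩ := hy
    rwa [(MulAut.conj w).injective e'] at hz

end Cfsg.Agent.Lib.DihedralCore
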